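import Cfsg.Agent.Lib.HeldType.CentShape.IsoDefs

/-! Generated bases for the mates of the model element of order seven. -/

set_option autoImplicit false

namespace Cfsg.Lib.HeldType.CentShape.Iso

/-- The bases. -/
def wA : List (ℕ × ℕ × ℕ) :=
  [(34638680193, 34630287489, 1),
   (35731034241, 34630287489, 1),
   (17718845697, 52489638342, 1),
   (22047367425, 52489638342, 1),
   (51814351297, 17859354693, 1),
   (58341474753, 17859354693, 1),
   (17718977793, 6560779824, 6),
   (35043438658, 60544807299, 1),
   (35077255234, 60544807299, 1),
   (34764505219, 9133109506, 1),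
   (37029953667, 9133109506, 1),
   (60400091525, 25918726340, 1),
   (65769849221, 25918726340, 1),
   (9537859718, 43759178055, 1),
   (13883945094, 43759178055, 1),
   (9537990798, 7601884200, 6),
   (51814352849, 5387520528, 6),
   (34638911649, 1108771872, 6),
   (35043603562, 3322971704, 6),
   (60400192941, 4345954840, 6),
   (34764538555, 2214922248, 6)]

end Cfsg.Lib.HeldType.CentShape.Iso
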